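import Groth.Agent.Lib.AdeqA.Cartan
import Groth.Agent.Lib.GaPts.Basic
import Groth.Prelude.Def_CGrpSh2

/-!
# The additive group is the structure sheaf: no higher fppf cohomology on affines
-/

set_option autoImplicit false
set_option linter.style.haveILetI false
set_option maxHeartbeats 800000
set_option backward.isDefEq.respectTransparency false
set_option backward.isDefEq.respectTransparency.types false
universe u

open CategoryTheory CategoryTheory.Limits AlgebraicGeometry Opposite MonObj TensorProduct Abelian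

noncomputable section

namespace Groth.Agent.GaCoh23

variable {S : Scheme.{u}}

/-- Global functions as points of the additive group. -/
def secEquiv (T : Over S) :
    ((BigSite.toAbMod Scheme.fppfPrecoverage S).obj (BigSite.unitMod Scheme.fppfPrecoverage S)).obj.obj (op T) ≃+
      (CGrpSh2.Ga Scheme.fppfPrecoverage S).obj.obj (op T) where
  toFun v := ULift.up (Additive.ofMul (GaPts.ptOfFn (show ULift.{u + 1} Γ(T.left, ⊤) from v).down : T ⟶ Red.Ga S))
  invFun x := (ULift.up (Red.gaFn (ULift.down x).toMul) : ULift.{u + 1} Γ(T.left, ⊤))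
  left_inv v := ULift.ext _ _ (GaPts.gaFn_ptOfFn _)
  right_inv x := ULift.ext _ _ (GaPts.gaFn_injective (GaPts.gaFn_ptOfFn _))
  map_add' v w := ULift.ext _ _ (GaPts.ptOfFn_add _ _)

/-- The structure sheaf is the additive group. -/
def unitIso : (BigSite.toAbMod Scheme.fppfPrecoverage S).obj (BigSite.unitMod Scheme.fppfPrecoverage S) ≅
    CGrpSh2.Ga Scheme.fppfPrecoverage S :=
  (sheafToPresheaf _ _).preimageIso
    (NatIso.ofComponents (fun T => (secEquiv T.unop).toAddCommGrpIso) fun {T T'} g =>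
      AddCommGrpCat.ext fun v => ULift.ext _ _
        (GaPts.ptOfFn_comp g.unop (show ULift.{u + 1} Γ(T.unop.left, ⊤) from v).down).symm)

/-- The structure sheaf is adequate. -/
theorem adequate_toMVF_unitMod {R : CommRingCat.{u}} (a : Spec R ⟶ S) :
    Adeq.adequate R ((Adeq.toMVF Scheme.fppfPrecoverage a).obj (BigSite.unitMod Scheme.fppfPrecoverage S)) := by
  let M : ModuleCat.{u + 1} R := ModuleCat.of R (ULift.{u + 1} R)
  let ev : ∀ B : Adeq.Alg R,
      AdeqA.El ((Adeq.toMVF Scheme.fppfPrecoverage a).obj (BigSite.unitMod Scheme.fppfPrecoverage S)) B →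
        (B : Type u) :=
    fun B z => (Scheme.ΓSpecIso (CommRingCat.of B)).hom (show ULift.{u + 1} Γ(Spec (CommRingCat.of B), ⊤) from z).down
  let e : ∀ B : Adeq.Alg R, (B : Type u) ⊗[R] M ≃ₗ[R] (B : Type u) := fun B =>
    (TensorProduct.congr (LinearEquiv.refl R (B : Type u)) ULift.moduleEquiv).trans (TensorProduct.rid R B)
  have he : ∀ (B : Adeq.Alg R) (b : B), e B (b ⊗ₜ[R] (ULift.up 1 : ULift.{u + 1} R)) = b := fun B b => one_smul R b
  have hinj : ∀ B, Function.Injective (ev B) := fun B x y h => by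
    apply ULift.ext
    exact (Scheme.ΓSpecIso (CommRingCat.of B)).commRingCatIsoToRingEquiv.injective h
  let one : M := (ULift.up 1 : ULift.{u + 1} R)
  refine (AdeqA.adequate_iff _).2 ⟨M, M, 0, AdeqA.mkHom (fun B =>
      { toFun := fun z => AdeqA.ofT (M := M) ((ev B z) ⊗ₜ[R] one)
        map_add' := fun z w => by
          show AdeqA.ofT (M := M) ((Scheme.ΓSpecIso (CommRingCat.of B)).hom _ ⊗ₜ[R] one) = _
          exact (congrArg (fun b => AdeqA.ofT (M := M) (b ⊗ₜ[R] one))
            (map_add (Scheme.ΓSpecIso (CommRingCat.of B)).hom.hom _ _)).trans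
            ((congrArg AdeqA.ofT (TensorProduct.add_tmul _ _ _)).trans (AdeqA.ofT_add _ _))
        map_smul' := fun b z => by
          refine (congrArg (fun c => AdeqA.ofT (M := M) (c ⊗ₜ[R] one)) (?_ : ev B (b • z) = b * ev B z)).trans ?_
          · refine (map_mul (Scheme.ΓSpecIso (CommRingCat.of B)).hom.hom _ _).trans ?_
            exact congrArg (· * ev B z) ((Scheme.ΓSpecIso (CommRingCat.of B)).commRingCatIsoToRingEquiv.apply_symm_apply b)
          · exact (congrArg AdeqA.ofT (TensorProduct.smul_tmul' b (ev B z) _).symm).trans (AdeqA.ofT_smul _ _) })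
      (fun {B B'} f z => ?_), ⟨fun B x y h => ?_, fun B x => ?_, fun B y _ => ?_⟩⟩
  · refine (?_ : AdeqA.ofT (M := M) (ev B' (AdeqA.fmap _ f z) ⊗ₜ[R] (show M from (ULift.up 1 : ULift.{u + 1} R))) =
      AdeqA.fmap (AdeqA.uO R M) f (AdeqA.ofT (M := M) (ev B z ⊗ₜ[R] (show M from (ULift.up 1 : ULift.{u + 1} R)))))
    rw [AdeqA.fmap_ofT, LinearMap.rTensor_tmul]
    refine congrArg (fun c => AdeqA.ofT (M := M) (c ⊗ₜ[R] (show M from (ULift.up 1 : ULift.{u + 1} R)))) ?_
    exact (congrArg (fun φ => φ.hom (show ULift.{u + 1} Γ(Spec (CommRingCat.of B), ⊤) from z).down)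
      (Scheme.ΓSpecIso_naturality (CommRingCat.ofHom f.hom.toRingHom)))
  · refine hinj B ?_
    have h' := congrArg (fun t => e B (AdeqA.toT t)) h
    exact (he B _).symm.trans (h'.trans (he B _))
  · rw [show AdeqA.uM R (0 : M ⟶ M) = 0 from (Adeq.underline R).map_zero M M]
    rfl
  · obtain ⟨t, rfl⟩ := (AdeqA.toTE M B).symm.surjective y
    refine ⟨(ULift.up ((Scheme.ΓSpecIso (CommRingCat.of B)).inv (e B t)) :
      ULift.{u + 1} Γ(Spec (CommRingCat.of B), ⊤)), ?_⟩
    show AdeqA.ofT (_ ⊗ₜ[R] _) = AdeqA.ofT t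
    refine congrArg AdeqA.ofT ((e B).injective ((he B _).trans ?_))
    exact (Scheme.ΓSpecIso (CommRingCat.of B)).commRingCatIsoToRingEquiv.apply_symm_apply (e B t)

/-- Positive degree cohomology of the additive group of an affine scheme vanishes. -/
theorem subsingleton_H_Ga [IsAffine S] (n : ℕ) :
    Subsingleton (BigSite.H Scheme.fppfPrecoverage S (CGrpSh2.Ga Scheme.fppfPrecoverage S) (n + 1)) := by
  have h : AdeqA.CechAcyc
      ((BigSite.toAbMod Scheme.fppfPrecoverage S).obj (BigSite.unitMod Scheme.fppfPrecoverage S)) :=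
    fun R a B _ _ _ _ n => AdeqA.cech_exactAt a _ (adequate_toMVF_unitMod a) B n
  haveI := AdeqA.subsingleton_H_of_cechAcyc n _ h
  refine ⟨fun x y => ?_⟩
  have key : ∀ z : Sheaf.H (CGrpSh2.Ga Scheme.fppfPrecoverage S) (n + 1),
      (z.comp (Ext.mk₀ unitIso.inv) (add_zero _)).comp (Ext.mk₀ unitIso.hom) (add_zero _) = z := fun z => by
    rw [Ext.comp_assoc_of_third_deg_zero, Ext.mk₀_comp_mk₀, Iso.inv_hom_id, Ext.comp_mk₀_id]
  rw [← key x, ← key y, Subsingleton.elim (α := Sheaf.H _ (n + 1)) (Ext.comp x (Ext.mk₀ unitIso.inv) (add_zero _))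
    (Ext.comp y (Ext.mk₀ unitIso.inv) (add_zero _))]

/-- Vanishing passes to extensions. -/
theorem subsingleton_H_of_shortExact {C : ShortComplex (BigSite.Ab Scheme.fppfPrecoverage S)} (hC : C.ShortExact)
    {n : ℕ} (h₁ : Subsingleton (BigSite.H Scheme.fppfPrecoverage S C.X₁ n))
    (h₃ : Subsingleton (BigSite.H Scheme.fppfPrecoverage S C.X₃ n)) :
    Subsingleton (BigSite.H Scheme.fppfPrecoverage S C.X₂ n) := by
  refine ⟨fun x y => ?_⟩
  suffices H : ∀ z : Sheaf.H C.X₂ n, z = 0 from (H x).trans (H y).symm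
  intro z
  obtain ⟨w, hw⟩ := Ext.covariant_sequence_exact₂ _ hC z (Subsingleton.elim _ _)
  rw [← hw, Subsingleton.elim w 0, Ext.zero_comp]

end Groth.Agent.GaCoh23
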